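import Groth.Agent.ComodLib.StableClosed
import Groth.Agent.ComodLib.Unitriangular
import Mathlib.RingTheory.Flat.FaithfullyFlat.Basic
import Mathlib.RingTheory.Spectrum.Prime.RingHom

/-!
# Orbits of unipotent groups on affine schemes are closed
-/

set_option autoImplicit false
set_option linter.style.haveILetI false

universe u

open TensorProduct WithConv

namespace Groth.Agent.UnipOrbitLib

open Groth.Agent.ComodLib

variable {k : Type u} [Field k] {H : Type u} [CommRing H] [HopfAlgebra k H]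

/-- A nonzero subcomodule of a unipotent coalgebra contains `1`. -/
theorem one_mem_of_subcomod (hU : HopfRep.IsUnipotent k H) {J : Submodule k H}
    (hJ : HopfRep.IsSubcomod (k := k) (A := H) J) (hne : J ≠ ⊥) : (1 : H) ∈ J := by
  obtain ⟨a, ha, ha0⟩ := Submodule.exists_mem_ne_zero_of_ne_bot hne
  obtain ⟨U, hUf, haU, hUs⟩ := exists_finite_subcomod_mem (k := k) (C := H) (V := H) a
  let W := U ⊓ J
  have hWs : HopfRep.IsSubcomod (k := k) (A := H) W := isSubcomod_inf hUs hJ
  haveI : Module.Finite k W := Submodule.finiteDimensional_of_le (inf_le_left : W ≤ U)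
  haveI : Nontrivial W := ⟨⟨⟨a, haU, ha⟩, 0, fun h => ha0 (congrArg Subtype.val h)⟩⟩
  letI : HopfRep.Comod k H W := ComodSub.Comod.restr (HopfRep.Comod.regular k H) W hWs
  obtain ⟨w, hw, hw0⟩ := Submodule.exists_mem_ne_zero_of_ne_bot (hU W inferInstance inferInstance)
  have hw' : HopfRep.Comod.coact (k := k) (A := H) w = w ⊗ₜ[k] (1 : H) := hw
  have hΔ : Coalgebra.comul (R := k) (w : H) = (w : H) ⊗ₜ[k] (1 : H) := by
    have h := LinearMap.congr_fun (ComodSub.isComodHom_subtype (HopfRep.Comod.regular k H) W hWs) w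
    refine (show Coalgebra.comul (R := k) (w : H) = W.subtype.rTensor H (HopfRep.Comod.coact (k := k) (A := H) w) from h).trans ?_
    rw [hw', LinearMap.rTensor_tmul]
    rfl
  have h1 := congrArg (TensorProduct.lid k H) (Coalgebra.rTensor_counit_comul (R := k) (w : H))
  rw [hΔ, LinearMap.rTensor_tmul, TensorProduct.lid_tmul, TensorProduct.lid_tmul, one_smul] at h1
  have hc : Coalgebra.counit (R := k) (w : H) ≠ 0 := fun h0 => hw0 (Subtype.ext (by rw [← h1, h0, zero_smul]; rfl))
  have : (1 : H) = (Coalgebra.counit (R := k) (w : H))⁻¹ • (w : H) :=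
    (eq_inv_smul_iff₀ hc).2 h1
  rw [this]
  exact J.smul_mem _ w.2.2

/-- Left slice of the comultiplication. -/
noncomputable abbrev lfun (c : H →ₗ[k] k) : H →ₗ[k] H := coefFun (C := H) (V := H) c

theorem lfun_apply (c : H →ₗ[k] k) (a : H) :
    lfun c a = TensorProduct.lid k H (c.rTensor H (Coalgebra.comul (R := k) a)) := rfl

theorem convMul_eq_lfun (c d : H →ₗ[k] k) (a : H) :
    (toConv c * toConv d).ofConv a = d (lfun c a) := by
  rw [lfun_apply]
  show LinearMap.mul' k k (TensorProduct.map c d (Coalgebra.comul (R := k) a)) = _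
  induction Coalgebra.comul (R := k) a using TensorProduct.induction_on with
  | zero => simp
  | tmul x y => simp
  | add p q hp hq => simp only [map_add, hp, hq]

/-- `Δ` maps `C` into `C ⊗ H`. -/
def IsRightStable (C : Submodule k H) : Prop := HopfRep.IsSubcomod (k := k) (A := H) C

theorem convMul_congr_left {C : Submodule k H} (hC : IsRightStable C) {c c' : H →ₗ[k] k}
    (h : ∀ x ∈ C, c x = c' x) (d : H →ₗ[k] k) {a : H} (ha : a ∈ C) :
    (toConv c * toConv d).ofConv a = (toConv c' * toConv d).ofConv a := by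
  obtain ⟨y, hy⟩ := hC a ha
  show LinearMap.mul' k k (TensorProduct.map c d (Coalgebra.comul (R := k) a)) =
    LinearMap.mul' k k (TensorProduct.map c' d (Coalgebra.comul (R := k) a))
  rw [show Coalgebra.comul (R := k) a = _ from hy.symm]
  clear hy
  induction y using TensorProduct.induction_on with
  | zero => simp
  | tmul x z => simp [h x x.2]
  | add p q hp hq => simp only [map_add, hp, hq]

theorem convMul_congr_right {B : Submodule k H} {c d d' : H →ₗ[k] k} (h : ∀ x ∈ B, d x = d' x) {a : H}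
    (ha : Coalgebra.comul (R := k) a ∈ LinearMap.range (TensorProduct.map B.subtype B.subtype)) :
    (toConv c * toConv d).ofConv a = (toConv c * toConv d').ofConv a := by
  obtain ⟨y, hy⟩ := ha
  show LinearMap.mul' k k (TensorProduct.map c d (Coalgebra.comul (R := k) a)) =
    LinearMap.mul' k k (TensorProduct.map c d' (Coalgebra.comul (R := k) a))
  rw [← hy]
  clear hy
  induction y using TensorProduct.induction_on with
  | zero => simp
  | tmul x z => simp [h z z.2]
  | add p q hp hq => simp only [map_add, hp, hq]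

variable {C B : Subalgebra k H}

/-- The orbit map of a point of a stable subalgebra. -/
theorem exists_orbit (hC : IsRightStable C.toSubmodule)
    (hB : ∀ b ∈ B, Coalgebra.comul (R := k) b ∈ LinearMap.range (TensorProduct.map B.val.toLinearMap B.val.toLinearMap))
    (hCB : C ≤ B) (c : C →ₐ[k] k) (ĉ : H →ₗ[k] k) (hĉ : ∀ x : C, ĉ x = c x) :
    ∃ φ : C →ₐ[k] B, ∀ a : C, (φ a : H) = lfun ĉ a := by
  let ι : C ⊗[k] H →ₐ[k] H ⊗[k] H := Algebra.TensorProduct.map C.val (AlgHom.id k H)
  let L : C ⊗[k] H →ₐ[k] H :=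
    (Algebra.TensorProduct.lid k H).toAlgHom.comp (Algebra.TensorProduct.map c (AlgHom.id k H))
  have hL : ∀ y : C ⊗[k] H, L y = TensorProduct.lid k H (ĉ.rTensor H (ι y)) := fun y => by
    induction y using TensorProduct.induction_on with
    | zero => simp
    | tmul x z => simp [L, ι, hĉ]
    | add p q hp hq => simp only [map_add, hp, hq]
  have hy : ∀ a : C, ∃ y, ι y = Bialgebra.comulAlgHom k H a := fun a => by
    obtain ⟨y, hy⟩ := hC a a.2
    refine ⟨y, ?_⟩
    rw [show Bialgebra.comulAlgHom k H (a : H) = HopfRep.Comod.coact (k := k) (A := H) (a : H) from rfl, ← hy]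
    rfl
  have hmem : ∀ a : C, lfun ĉ (a : H) ∈ B := fun a => by
    obtain ⟨z, hz⟩ := hB a (hCB a.2)
    rw [lfun_apply, ← hz]
    clear hz
    induction z using TensorProduct.induction_on with
    | zero => simp
    | tmul x z => simpa using B.smul_mem z.2 (ĉ x)
    | add p q hp hq => simp only [map_add]; exact B.add_mem hp hq
  refine ⟨AlgHom.ofLinearMap (((lfun ĉ).comp C.val.toLinearMap).codRestrict B.toSubmodule hmem) ?_ ?_, fun a => rfl⟩
  · refine Subtype.ext ?_
    show lfun ĉ (1 : H) = 1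
    rw [lfun_apply, Bialgebra.comul_one, Algebra.TensorProduct.one_def, LinearMap.rTensor_tmul, TensorProduct.lid_tmul,
      show ĉ 1 = 1 from (hĉ 1).trans (map_one c), one_smul]
  · intro x y
    refine Subtype.ext ?_
    show lfun ĉ ((x : H) * y) = lfun ĉ x * lfun ĉ y
    obtain ⟨x', hx'⟩ := hy x
    obtain ⟨y', hy'⟩ := hy y
    rw [lfun_apply, lfun_apply, lfun_apply, Bialgebra.comul_mul]
    change _ = TensorProduct.lid k H (ĉ.rTensor H (Bialgebra.comulAlgHom k H x)) *
      TensorProduct.lid k H (ĉ.rTensor H (Bialgebra.comulAlgHom k H y))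
    change TensorProduct.lid k H (ĉ.rTensor H (Bialgebra.comulAlgHom k H x * Bialgebra.comulAlgHom k H y)) = _
    rw [← hx', ← hy', ← map_mul, ← hL, ← hL, ← hL, map_mul]

/-- An orbit map of a stable subalgebra of a unipotent group is injective. -/
theorem orbit_injective (hU : HopfRep.IsUnipotent k H) (hC : IsRightStable C.toSubmodule) (c : C →ₐ[k] k)
    (ĉ : H →ₗ[k] k) (hĉ : ∀ x : C, ĉ x = c x) (a : C) (ha : lfun ĉ (a : H) = 0) : a = 0 := by
  by_contra ha0
  let J := C.toSubmodule ⊓ LinearMap.ker (lfun ĉ)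
  have hJ : HopfRep.IsSubcomod (k := k) (A := H) J := isSubcomod_inf hC (isSubcomod_ker (isComodHom_coefFun ĉ))
  have h1 := one_mem_of_subcomod hU hJ fun h => ha0 (Subtype.ext
    ((Submodule.mem_bot k).1 (h ▸ (⟨a.2, ha⟩ : (a : H) ∈ J))))
  have h2 : lfun ĉ (1 : H) = 0 := h1.2
  rw [lfun_apply, Bialgebra.comul_one, Algebra.TensorProduct.one_def, LinearMap.rTensor_tmul, TensorProduct.lid_tmul,
    show ĉ 1 = 1 from (hĉ 1).trans (map_one c), one_smul] at h2
  obtain ⟨w, hw, hw0⟩ : ∃ w : H, w ∈ J ∧ w ≠ 0 := ⟨a, ⟨a.2, ha⟩, fun h => ha0 (Subtype.ext h)⟩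
  exact hw0 (by rw [← mul_one w, h2, mul_zero])

variable [IsAlgClosed k]

set_option maxHeartbeats 800000 in
/-- The group acts transitively on the points of a finitely generated stable subalgebra. -/
theorem exists_point_extension (hU : HopfRep.IsUnipotent k H) (hC : IsRightStable C.toSubmodule) (hCfg : C.FG)
    (hBfg : B.FG)
    (hB : ∀ b ∈ B, Coalgebra.comul (R := k) b ∈ LinearMap.range (TensorProduct.map B.val.toLinearMap B.val.toLinearMap))
    (hS : ∀ b ∈ B, HopfAlgebra.antipode k (A := H) b ∈ B) (hCB : C ≤ B) (c : C →ₐ[k] k) :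
    ∃ g : B →ₐ[k] k, g.comp (Subalgebra.inclusion hCB) = c := by
  haveI : Algebra.FiniteType k C := C.fg_iff_finiteType.1 hCfg
  haveI : Algebra.FiniteType k B := B.fg_iff_finiteType.1 hBfg
  haveI : IsNoetherianRing C := Algebra.FiniteType.isNoetherianRing k C
  haveI : IsJacobsonRing C := isJacobsonRing_of_finiteType (A := k)
  have ext1 : ∀ (D : Submodule k H) (f : D →ₗ[k] k), ∃ F : H →ₗ[k] k, ∀ x : D, F x = f x := fun D f => by
    obtain ⟨F, hF⟩ := LinearMap.exists_extend f
    exact ⟨F, fun x => LinearMap.congr_fun hF x⟩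
  obtain ⟨ĉ, hĉ⟩ := ext1 C.toSubmodule c.toLinearMap
  obtain ⟨φ, hφ⟩ := exists_orbit hC hB hCB c ĉ hĉ
  let ψ := Subalgebra.inclusion hCB
  have hφi : Function.Injective φ := by
    refine (injective_iff_map_eq_zero φ).2 fun a ha => orbit_injective hU hC c ĉ hĉ a ?_
    rw [← hφ, ha]; rfl
  have hfp : ∀ f : C →ₐ[k] B, f.toRingHom.FinitePresentation := fun f => by
    refine RingHom.FinitePresentation.of_finiteType.mp ?_
    exact AlgHom.FiniteType.of_comp_finiteType (f := Algebra.ofId k C) (g := f)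
      (by rw [show f.comp (Algebra.ofId k C) = Algebra.ofId k B from Subsingleton.elim _ _]
          exact RingHom.finiteType_algebraMap.mpr inferInstance)
  have hne : (Set.range (PrimeSpectrum.comap φ.toRingHom) ∩ Set.range (PrimeSpectrum.comap ψ.toRingHom)).Nonempty := by
    haveI : Nontrivial C := c.toRingHom.domain_nontrivial
    obtain ⟨m, hm⟩ := Ideal.exists_maximal C
    obtain ⟨η, hη, -⟩ := Ideal.exists_minimalPrimes_le (I := (⊥ : Ideal C)) (J := m) bot_le
    haveI := Ideal.minimalPrimes_isPrime hη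
    have : ∀ f : C →ₐ[k] B, Function.Injective f →
        (⟨η, inferInstance⟩ : PrimeSpectrum C) ∈ Set.range (PrimeSpectrum.comap f.toRingHom) := fun f hf => by
      obtain ⟨q, hq, hqp⟩ := Ideal.exists_comap_eq_of_mem_minimalPrimes f.toRingHom (I := (⊥ : Ideal B)) η
        (by rwa [← RingHom.ker_eq_comap_bot, (RingHom.injective_iff_ker_eq_bot f.toRingHom).mp hf])
      exact ⟨⟨q, hq⟩, PrimeSpectrum.ext hqp.2⟩
    exact ⟨_, this φ hφi, this ψ (Subalgebra.inclusion_injective hCB)⟩
  obtain ⟨z, ⟨hz₁, hz₂⟩, hzc⟩ := exists_closedPoint_of_isConstructible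
    ((PrimeSpectrum.isConstructible_range_comap (hfp φ)).inter (PrimeSpectrum.isConstructible_range_comap (hfp ψ))) hne
  have hzm : z.asIdeal.IsMaximal := (PrimeSpectrum.isClosed_singleton_iff_isMaximal z).mp hzc
  obtain ⟨w, hw⟩ := exists_point (k := k) z.asIdeal hzm.ne_top
  have hzw : z = ⟨RingHom.ker w, RingHom.ker_isPrime _⟩ :=
    PrimeSpectrum.ext (hzm.eq_of_le (RingHom.ker_ne_top _) hw)
  obtain ⟨g, hg⟩ := exists_lift_of_mem_range φ w (hzw ▸ hz₁)
  obtain ⟨g', hg'⟩ := exists_lift_of_mem_range ψ w (hzw ▸ hz₂)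
  -- `c = (g' * g⁻¹)|_C`
  let S : B →ₐ[k] B := ((HopfAlgebra.antipodeAlgHom k H).comp B.val).codRestrict B fun b => hS b b.2
  let ιB : B ⊗[k] B →ₐ[k] H ⊗[k] H := Algebra.TensorProduct.map B.val B.val
  have hιB : Function.Injective ιB :=
    TensorProduct.map_injective_of_flat_flat _ _ Subtype.val_injective Subtype.val_injective
  let δ : B →ₐ[k] B ⊗[k] B := (AlgEquiv.ofInjective ιB hιB).symm.toAlgHom.comp
    (((Bialgebra.comulAlgHom k H).comp B.val).codRestrict ιB.range fun b => by
      obtain ⟨y, hy⟩ := hB b b.2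
      exact ⟨y, hy⟩)
  have hδ : ∀ b : B, ιB (δ b) = Coalgebra.comul (R := k) (b : H) := fun b =>
    congrArg Subtype.val ((AlgEquiv.ofInjective ιB hιB).apply_symm_apply _)
  let g'' : B →ₐ[k] k :=
    (Algebra.TensorProduct.lift g' (g.comp S) fun _ _ => Commute.all _ _).comp δ
  refine ⟨g'', AlgHom.ext fun a => ?_⟩
  obtain ⟨G, hG⟩ := ext1 B.toSubmodule g.toLinearMap
  obtain ⟨G', hG'⟩ := ext1 B.toSubmodule g'.toLinearMap
  let GS : H →ₗ[k] k := G ∘ₗ HopfAlgebra.antipode k
  have hGS : ∀ b : B, GS b = g (S b) := fun b => hG (S b)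
  have hg'' : ∀ b : B, g'' b = (toConv G' * toConv GS).ofConv (b : H) := by
    intro b
    show (Algebra.TensorProduct.lift g' (g.comp S) fun _ _ => Commute.all _ _) (δ b) =
      LinearMap.mul' k k (TensorProduct.map G' GS (Coalgebra.comul (R := k) (b : H)))
    rw [← hδ]
    induction δ b using TensorProduct.induction_on with
    | zero => simp
    | tmul x y => simp [ιB, hG', hGS]
    | add p q hp hq => simp only [map_add, hp, hq]
  have hGGS : ∀ x ∈ B.toSubmodule, (toConv G * toConv GS).ofConv x = Coalgebra.counit (R := k) x := by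
    intro x hx
    have h1 : g ((Algebra.TensorProduct.lift (AlgHom.id k B) S fun _ _ => Commute.all _ _) (δ ⟨x, hx⟩)) =
        (toConv G * toConv GS).ofConv x := by
      show _ = LinearMap.mul' k k (TensorProduct.map G GS (Coalgebra.comul (R := k) ((⟨x, hx⟩ : B) : H)))
      rw [← hδ]
      induction δ ⟨x, hx⟩ using TensorProduct.induction_on with
      | zero => simp
      | tmul y z => simp [ιB, hG, hGS]
      | add p q hp hq => simp only [map_add, hp, hq]
    rw [← h1]
    have h2 : ((Algebra.TensorProduct.lift (AlgHom.id k B) S fun _ _ => Commute.all _ _) (δ ⟨x, hx⟩) : H) =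
        algebraMap k H (Coalgebra.counit (R := k) x) := by
      rw [← HopfAlgebra.mul_antipode_lTensor_comul_apply (R := k) x, show Coalgebra.comul (R := k) x = ιB (δ ⟨x, hx⟩) from (hδ ⟨x, hx⟩).symm]
      induction δ ⟨x, hx⟩ using TensorProduct.induction_on with
      | zero => simp
      | tmul y z => simp [ιB, S]
      | add p q hp hq => simp only [map_add, Subalgebra.coe_add, hp, hq]
    rw [show (Algebra.TensorProduct.lift (AlgHom.id k B) S fun _ _ => Commute.all _ _) (δ ⟨x, hx⟩) =
      algebraMap k B (Coalgebra.counit (R := k) x) from Subtype.ext h2, AlgHom.commutes]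
    rfl
  have haB := hB (a : H) (hCB a.2)
  show g'' ⟨(a : H), hCB a.2⟩ = c a
  rw [hg'']
  have e1 : ∀ x ∈ C.toSubmodule, G' x = (toConv ĉ * toConv G).ofConv x := fun x hx => by
    rw [convMul_eq_lfun, ← hφ ⟨x, hx⟩]
    exact ((hG' ⟨x, hCB hx⟩).trans (AlgHom.congr_fun hg' ⟨x, hx⟩)).trans
      ((AlgHom.congr_fun hg ⟨x, hx⟩).symm.trans (hG _).symm)
  rw [convMul_congr_left hC e1 GS a.2, toConv_ofConv, mul_assoc,
    ← toConv_ofConv (toConv G * toConv GS), convMul_congr_right hGGS haB]
  rw [show toConv (Coalgebra.counit (R := k) (A := H)) = 1 from by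
    apply WithConv.ofConv_injective; ext x; simp, mul_one]
  exact hĉ a

/-- Orbits of a unipotent group are closed. -/
theorem isClosedOrbit (hU : HopfRep.IsUnipotent k H)
    (B : ℕ → Subalgebra k H) (hmono : Monotone B) (hcov : ∀ h : H, ∃ i, h ∈ B i) (hfg : ∀ i, (B i).FG)
    (hcomul : ∀ i, ∀ b ∈ B i, CoalgebraStruct.comul (R := k) (A := H) b ∈
      LinearMap.range (TensorProduct.map (B i).val.toLinearMap (B i).val.toLinearMap))
    (hanti : ∀ i, ∀ b ∈ B i, HopfAlgebraStruct.antipode (R := k) (A := H) b ∈ B i)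
    (hfree : ∀ i, Module.Free (B i) H)
    {A : Type u} [CommRing A] [Algebra k A] [HopfRep.Comod k H A] [GLin.IsCoactAlg k H A] (x : A →ₐ[k] k) :
    GLin.IsClosedOrbit k H x := by
  classical
  set φ := GLin.orbitHom k H x
  have hA' : IsRightStable φ.range.toSubmodule := by
    have h := isSubcomod_range (C := H) (isComodHom_orbitHom (A := H) x)
    exact h
  show IsClosed _
  suffices Set.range (PrimeSpectrum.comap φ.toRingHom) = PrimeSpectrum.zeroLocus (RingHom.ker φ.toRingHom) by
    rw [this]; exact PrimeSpectrum.isClosed_zeroLocus _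
  refine Set.Subset.antisymm ?_ fun P hP => ?_
  · rw [← PrimeSpectrum.closure_range_comap]; exact subset_closure
  rw [PrimeSpectrum.mem_range_comap_iff]
  refine le_antisymm (fun a ha => ?_) Ideal.le_comap_map
  -- finitely many elements of `P` are involved
  obtain ⟨T, hTP, hT⟩ : ∃ T : Finset A, (T : Set A) ⊆ P.asIdeal ∧ φ a ∈ (Ideal.span (T : Set A)).map φ.toRingHom := by
    have h : φ a ∈ Ideal.span (φ '' (P.asIdeal : Set A)) := ha
    obtain ⟨T', hT', haT⟩ := Submodule.mem_span_finite_of_mem_span h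
    obtain ⟨T, hTP, rfl⟩ := Finset.subset_set_image_iff.1 hT'
    refine ⟨T, hTP, ?_⟩
    rw [Ideal.map_span]
    simpa using haT
  let S : Finset H := (insert a T).image φ
  obtain ⟨U, hUf, hSU, hUs⟩ := exists_finite_subcomod_le (k := k) (C := H) (V := H) S.finite_toSet
  let W := U ⊓ φ.range.toSubmodule
  have hWs : HopfRep.IsSubcomod (k := k) (A := H) W := isSubcomod_inf hUs hA'
  haveI : Module.Finite k W := Submodule.finiteDimensional_of_le (inf_le_left : W ≤ U)
  obtain ⟨w, hw⟩ : (W : Submodule k H).FG := Module.Finite.iff_fg.1 inferInstance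
  let C := Algebra.adjoin k (w : Set H)
  have hWC : W ≤ C.toSubmodule := by
    rw [← hw, Submodule.span_le]; exact Algebra.subset_adjoin
  have hC : IsRightStable C.toSubmodule := by
    intro z hz
    let R : Subalgebra k (H ⊗[k] H) := (Algebra.TensorProduct.map C.val (AlgHom.id k H)).range
    have : C ≤ R.comap (Bialgebra.comulAlgHom k H) := Algebra.adjoin_le fun y hy => by
      obtain ⟨t, ht⟩ := hWs y (hw ▸ Submodule.subset_span hy)
      refine ⟨(Submodule.inclusion hWC).rTensor H t, ?_⟩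
      show _ = HopfRep.Comod.coact (k := k) (A := H) y
      rw [← ht]
      clear ht
      induction t using TensorProduct.induction_on with
      | zero => simp
      | tmul p q => rfl
      | add p q hp hq => simp only [map_add, hp, hq]
    obtain ⟨t, ht⟩ := this hz
    exact ⟨t, ht⟩
  obtain ⟨i, hi⟩ : ∃ i, (w : Set H) ⊆ B i := by
    choose f hf using hcov
    exact ⟨w.sup f, fun y hy => hmono (Finset.le_sup hy) (hf y)⟩
  have hCB : C ≤ B i := Algebra.adjoin_le hi
  have hCA : C ≤ φ.range := Algebra.adjoin_le fun y hy => (show y ∈ W from hw ▸ Submodule.subset_span hy).2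
  have hCfg : C.FG := ⟨w, rfl⟩
  haveI : Algebra.FiniteType k C := C.fg_iff_finiteType.1 hCfg
  haveI : IsNoetherianRing C := Algebra.FiniteType.isNoetherianRing k C
  haveI : IsJacobsonRing C := isJacobsonRing_of_finiteType (A := k)
  haveI : Algebra.FiniteType k (B i) := (B i).fg_iff_finiteType.1 (hfg i)
  haveI := hfree i
  haveI : Nontrivial H := Bialgebra.nontrivial (R := k)
  haveI : Module.FaithfullyFlat (B i) H := inferInstance
  -- `Spec H → Spec C` is surjective
  have hsurj : Function.Surjective (PrimeSpectrum.comap (algebraMap C H)) := by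
    let ψ := Subalgebra.inclusion hCB
    have hψ : ψ.toRingHom.FinitePresentation := RingHom.FinitePresentation.of_finiteType.mp
      (AlgHom.FiniteType.of_comp_finiteType (f := Algebra.ofId k C) (g := ψ)
        (by rw [show ψ.comp (Algebra.ofId k C) = Algebra.ofId k (B i) from Subsingleton.elim _ _]
            exact RingHom.finiteType_algebraMap.mpr inferInstance))
    intro z
    have hz : z ∈ Set.range (PrimeSpectrum.comap ψ.toRingHom) := by
      by_contra hnot
      obtain ⟨m, hm, hmc⟩ := exists_closedPoint_of_isConstructible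
        (PrimeSpectrum.isConstructible_range_comap hψ).compl ⟨z, hnot⟩
      have hmm : m.asIdeal.IsMaximal := (PrimeSpectrum.isClosed_singleton_iff_isMaximal m).mp hmc
      obtain ⟨c, hc⟩ := exists_point (k := k) m.asIdeal hmm.ne_top
      obtain ⟨g, hg⟩ := exists_point_extension hU hC hCfg (hfg i) (hcomul i) (hanti i) hCB c
      refine hm ⟨⟨RingHom.ker g, RingHom.ker_isPrime _⟩, PrimeSpectrum.ext ?_⟩
      rw [hmm.eq_of_le (RingHom.ker_ne_top _) hc, ← hg]
      rfl
    obtain ⟨q, rfl⟩ := hz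
    obtain ⟨r, rfl⟩ := PrimeSpectrum.comap_surjective_of_faithfullyFlat (A := B i) (B := H) q
    exact ⟨r, rfl⟩
  -- the prime of `C` under `P`
  have hSC : ∀ b ∈ insert a T, φ b ∈ C := fun b hb =>
    hWC ⟨hSU (Finset.mem_image_of_mem φ hb), ⟨b, rfl⟩⟩
  have hkey : ∀ b b' : A, φ b = φ b' → b ∈ P.asIdeal → b' ∈ P.asIdeal := fun b b' hbb hb => by
    have := hP (show b' - b ∈ RingHom.ker φ.toRingHom by
      show φ (b' - b) = 0
      rw [map_sub, hbb, sub_self])
    simpa using P.asIdeal.add_mem this hb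
  let p : Ideal C :=
    { carrier := {y | ∃ b ∈ P.asIdeal, φ b = y}
      zero_mem' := ⟨0, zero_mem _, map_zero φ⟩
      add_mem' := fun {y z} ⟨b, hb, e⟩ ⟨d, hd, e'⟩ => ⟨b + d, add_mem hb hd, by rw [map_add, e, e']; rfl⟩
      smul_mem' := fun y z ⟨b, hb, e⟩ => by
        obtain ⟨d, hd⟩ := hCA y.2
        exact ⟨d * b, P.asIdeal.mul_mem_left _ hb, by rw [map_mul, e]; exact congrArg (· * (z : H)) hd⟩ }
  haveI : p.IsPrime := by
    refine ⟨fun h => ?_, fun {y z} hyz => ?_⟩
    · obtain ⟨b, hb, e⟩ : (1 : C) ∈ p := (Ideal.eq_top_iff_one p).1 h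
      exact P.isPrime.ne_top ((Ideal.eq_top_iff_one _).2 (hkey b 1 (e.trans (map_one φ).symm) hb))
    · obtain ⟨b, hb, e⟩ : ∃ b ∈ P.asIdeal, φ b = ((y * z : C) : H) := hyz
      obtain ⟨b₁, h₁⟩ := hCA y.2
      obtain ⟨b₂, h₂⟩ := hCA z.2
      have : b₁ * b₂ ∈ P.asIdeal := hkey b _ (e.trans (by rw [map_mul]; exact congrArg₂ (· * ·) h₁.symm h₂.symm)) hb
      exact (P.isPrime.mem_or_mem this).imp (fun h => ⟨b₁, h, h₁⟩) fun h => ⟨b₂, h, h₂⟩
  obtain ⟨Q, hQ⟩ := hsurj ⟨p, inferInstance⟩
  have hQp : ∀ y : C, y ∈ p ↔ (y : H) ∈ Q.asIdeal := fun y =>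
    (SetLike.ext_iff.1 (congrArg PrimeSpectrum.asIdeal hQ) y).symm
  have haQ : φ a ∈ Q.asIdeal := by
    refine (Ideal.map_le_iff_le_comap.2 (Ideal.span_le.2 fun b hb => ?_) : (Ideal.span (T : Set A)).map φ.toRingHom ≤ Q.asIdeal) hT
    exact (hQp ⟨φ b, hSC b (Finset.mem_insert_of_mem hb)⟩).1 ⟨b, hTP hb, rfl⟩
  obtain ⟨b, hb, e⟩ := (hQp ⟨φ a, hSC a (Finset.mem_insert_self a T)⟩).2 haQ
  exact hkey b a e hb

end Groth.Agent.UnipOrbitLib
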